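import Cfsg.Agent.MonsterU.Lam2
import Cfsg.Agent.S5551
import Cfsg.Agent.FastGrp
import Cfsg.Agent.Prune
set_option linter.all false
prune_inst 0x7f00000000000000000000000000000000000000000000000000000000000000000000000000000000000000000000000000000000000000000000000000000000000000000000000000000000000000003fffffffffffffffffffffffffffbeffbdffffffff
open scoped Cfsg.Agent.FastGrp

/-!
# The stabiliser in `Co1` of a class of type 3 (helper849)

`stabEquiv : Spor.Co3 ≃* Stab_{Co1}(cl leechV)`.
-/

set_option autoImplicit false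

open Cfsg
open Cfsg.Agent.MonsterU.Lam2
open Cfsg.Agent.LeechMat.Core
open Cfsg.Agent.SporadicA.Co0Basic
open Cfsg.Spor (Co1 leechV leechU)

namespace Cfsg.Agent.H849.StabCo3

theorem norm_V : sqNorm (leechV : GolayPt → ℤ) = 48 := by
  show sqNorm Spor.vecV = 48
  decide

theorem isType_V : IsType 3 (cl leechV) := ⟨leechV, by rw [norm_V]; norm_num, rfl⟩

/-- a lattice vector of norm 48 in the class of `v` of norm 48 is `± v` -/
theorem eq_or_neg {v w : leechLattice} (hv : sqNorm (v : GolayPt → ℤ) = 48) (hw : sqNorm (w : GolayPt → ℤ) = 48)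
    (h : cl v = cl w) : w = v ∨ w = -v := by
  obtain ⟨u, hu⟩ := cl_eq.1 h
  have hne : ∀ x : leechLattice, sqNorm (x : GolayPt → ℤ) = 48 → (x : GolayPt → ℤ) ≠ 0 := by
    intro x hx h0
    rw [h0] at hx
    have : sqNorm (0 : GolayPt → ℤ) = 0 := by simp [sqNorm]
    omega
  have h1 := (Cfsg.Agent.S5551.result v w v.2 w.2 (hne v hv) (hne w hw) (by omega) (by omega)
    ⟨u, u.2, congrArg Subtype.val hu⟩).2 (by omega)
  rcases h1 with h1 | h1
  · left; exact Subtype.ext h1
  · right; exact Subtype.ext h1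

theorem smul_cl_iff (g : Co0) : g • cl leechV = cl leechV ↔ g • leechV = leechV ∨ g • leechV = -leechV := by
  constructor
  · intro h
    rw [smul_cl] at h
    exact eq_or_neg norm_V (by rw [co0_sqNorm, norm_V]) h.symm
  · rintro (h | h)
    · rw [smul_cl, h]
    · rw [smul_cl, h, cl_neg]

theorem neg_smul (v : leechLattice) : negCo0 • v = -v := rfl

theorem V_ne_neg : leechV ≠ -leechV := by
  intro h
  have h1 := congrArg (fun u : leechLattice => (u : GolayPt → ℤ) (some 0)) h
  simp only [NegMemClass.coe_neg, Pi.neg_apply] at h1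
  have h2 : (leechV : GolayPt → ℤ) (some 0) = -1 := by
    show Spor.vecV (some 0) = -1
    decide
  rw [h2] at h1
  norm_num at h1

/-- `Co3 → Stab_{Co1}(cl leechV)`. -/
def toStab : ↥Spor.Co3 →* ↥(MulAction.stabilizer Co1 (cl leechV)) where
  toFun g := ⟨QuotientGroup.mk ⟨g.1, g.2.1⟩, by
    rw [MulAction.mem_stabilizer_iff, mk_smul, smul_cl_iff]
    exact Or.inl (MulAction.mem_stabilizer_iff.1 g.2.2)⟩
  map_one' := rfl
  map_mul' _ _ := rfl

theorem toStab_injective : Function.Injective toStab := by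
  rw [injective_iff_map_eq_one]
  intro g hg
  have h1 : (QuotientGroup.mk (⟨g.1, g.2.1⟩ : Co0) : Co1) = 1 := congrArg Subtype.val hg
  have h2 := (QuotientGroup.eq_one_iff _).1 h1
  rcases eq_one_or_neg_of_mem_center h2 with h3 | h3
  · have h4 := congrArg (fun c : Co0 => c.1) h3
    exact Subtype.ext h4
  · exfalso
    have h4 : (⟨g.1, g.2.1⟩ : Co0) • leechV = leechV := MulAction.mem_stabilizer_iff.1 g.2.2
    rw [h3, neg_smul] at h4
    exact V_ne_neg h4.symm

theorem toStab_surjective : Function.Surjective toStab := by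
  rintro ⟨c, hc⟩
  obtain ⟨g, rfl⟩ := QuotientGroup.mk_surjective c
  rw [MulAction.mem_stabilizer_iff, mk_smul, smul_cl_iff] at hc
  rcases hc with h | h
  · exact ⟨⟨g.1, g.2, MulAction.mem_stabilizer_iff.2 h⟩, rfl⟩
  · refine ⟨⟨(negCo0 * g).1, (negCo0 * g).2, MulAction.mem_stabilizer_iff.2 ?_⟩, ?_⟩
    · show negCo0 • (g • leechV) = leechV
      rw [h, neg_smul, neg_neg]
    · apply Subtype.ext
      show (QuotientGroup.mk (negCo0 * g) : Co1) = QuotientGroup.mk g
      rw [QuotientGroup.eq]
      have h5 := negCo0_mem_center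
      have h6 : (negCo0 * g)⁻¹ * g = negCo0⁻¹ := by
        have h7 := Subgroup.mem_center_iff.1 h5 g
        rw [← h7]; group
      rw [h6]
      exact Subgroup.inv_mem _ h5

/-- **The stabiliser of a type 3 class.** -/
noncomputable def stabEquiv : ↥Spor.Co3 ≃* ↥(MulAction.stabilizer Co1 (cl leechV)) :=
  MulEquiv.ofBijective toStab ⟨toStab_injective, toStab_surjective⟩

end Cfsg.Agent.H849.StabCo3
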